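import Groth.Agent.L04.ExtZ.Funct
import Groth.Agent.L18.GammaLCMod
import Groth.Agent.L15.ModTensor.RestrDerived
import Groth.Agent.L04.SupportSh.Flasque
import Groth.Agent.L04.SupportSh.Criteria
import Groth.Agent.L16.CohSupport

/-!
# Local cohomology sheaves of modules and of the underlying abelian sheaves
-/

set_option autoImplicit false
set_option backward.isDefEq.respectTransparency false
set_option backward.isDefEq.respectTransparency.types false
set_option linter.style.haveILetI false
set_option linter.unusedSectionVars false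
universe u

open CategoryTheory CategoryTheory.Limits Opposite AlgebraicGeometry TopologicalSpace

noncomputable section

namespace Groth.L04.ExtZ

open Groth.L17 Groth.L18.GammaLC

theorem preservesFiniteLimits_sectSuppF {T : TopCat.{u}} (U : Opens T) :
    PreservesFiniteLimits (LocCohZ.sectSuppF U) := by
  refine ((LocCohZ.sectSuppF U).preservesFiniteLimits_tfae.out 0 3).1 (fun S hS => ?_)
  haveI := hS.mono_f
  have hinj : ∀ O : Opens T, Function.Injective (S.f.hom.app (op O)) := fun O =>
    (AddCommGrpCat.mono_iff_injective _).1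
      ((Groth.L17.GrothSS.secFun (Opens.grothendieckTopology T) O).map_mono (f := S.f))
  have hex : ∀ (O : Opens T) (b : S.X₂.obj.obj (op O)), S.g.hom.app (op O) b = 0 → ∃ a, S.f.hom.app (op O) a = b :=
    fun O b hb => TopCat.Sheaf.sections_exact_of_left_exact hS.1 hS.2 (U := O) b hb
  exact ⟨Groth.L17.exact_of_sections _ fun O y hy => sectSupp_map_exact U S.f S.g hex hinj O y hy,
    Groth.L17.mono_of_injective_app _ fun O => sectSupp_map_injective U S.f hinj O⟩

variable {X : Scheme.{u}} [IsLocallyNoetherian X] (U : X.Opens)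

/-- The two sections-with-supports functors on modules agree. -/
def sectOnGammaIso : ModSite.sectOn X.sheaf U ≅ (DCoh.gammaZ U.ι : ModSite.Mod X.sheaf ⥤ ModSite.Mod X.sheaf) := by
  let adj := Scheme.Modules.restrictAdjunction U.ι
  haveI : (Scheme.Modules.pushforward U.ι).Additive :=
    (Scheme.Modules.pullbackPushforwardAdjunction U.ι).right_adjoint_additive
  haveI : (Scheme.Modules.restrictFunctor U.ι).Additive := adj.left_adjoint_additive
  have crit : ∀ {A M : X.Modules} (a : A ⟶ M), a ≫ adj.unit.app M = 0 ↔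
      (Scheme.Modules.restrictFunctor U.ι).map a = 0 := fun {A M} a => by
    rw [← (adj.homEquiv A _).symm.injective.eq_iff (a := a ≫ adj.unit.app M),
      Adjunction.homEquiv_counit, Adjunction.homEquiv_counit, Functor.map_comp, Category.assoc,
      adj.left_triangle_components, Functor.map_zero, zero_comp]
    constructor
    · intro h; exact (Category.comp_id _).symm.trans h
    · intro h; exact (Category.comp_id _).trans h
  have h₁ : ∀ M : X.Modules, (ModSite.sectOnι X.sheaf U).app M ≫ adj.unit.app M = 0 := fun M =>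
    (crit _).2 ((Groth.L16.ExtZSh.restr_eq_zero_iff U _).1 (restr_sectOnι (O := X.sheaf) U M))
  have h₂ : ∀ M : X.Modules, kernel.ι (adj.unit.app M) ≫ (ModSite.restrPushOverAdj X.sheaf U).unit.app M = 0 :=
    fun M => (Groth.L15.ExtSupp.unit_comp_eq_zero_iff (O := X.sheaf) U _).2
      ((Groth.L16.ExtZSh.restr_eq_zero_iff U _).2 ((crit _).1 (kernel.condition _)))
  refine NatIso.ofComponents (fun M =>
    { hom := kernel.lift _ ((ModSite.sectOnι X.sheaf U).app M) (h₁ M)
      inv := kernel.lift _ (kernel.ι (adj.unit.app M)) (h₂ M)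
      hom_inv_id := by
        refine (cancel_mono ((ModSite.sectOnι X.sheaf U).app M)).1 ?_
        refine ((Category.assoc _ _ _).trans (congrArg (_ ≫ ·) (kernel.lift_ι _ _ _))).trans ?_
        exact (kernel.lift_ι _ _ _).trans (Category.id_comp _).symm
      inv_hom_id := by
        refine (cancel_mono (kernel.ι (adj.unit.app M))).1 ?_
        refine ((Category.assoc _ _ _).trans (congrArg (_ ≫ ·) (kernel.lift_ι _ _ _))).trans ?_
        exact (kernel.lift_ι _ _ _).trans (Category.id_comp _).symm }) fun {M N} g => ?_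
  refine (cancel_mono (kernel.ι (adj.unit.app N))).1 ?_
  refine (Category.assoc _ _ _).trans ?_
  refine (congrArg (_ ≫ ·) (kernel.lift_ι _ _ _)).trans ?_
  refine ((ModSite.sectOnι X.sheaf U).naturality g).trans ?_
  refine Eq.trans ?_ (Category.assoc _ _ _).symm
  refine Eq.trans ?_ (congrArg (_ ≫ ·) (show (DCoh.gammaZ U.ι).map g ≫ kernel.ι (adj.unit.app N) =
    kernel.ι (adj.unit.app M) ≫ g from kernel.lift_ι _ _ _)).symm
  refine Eq.trans ?_ (Category.assoc _ _ _)
  exact congrArg (· ≫ g) (kernel.lift_ι _ _ _).symm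

theorem isFlasque_injective_HZsh_zero (Q : X.Modules) [Injective Q] (q : ℕ) :
    IsZero ((LocCohZ.HZsh (X := X.toTopCat) U (q + 1)).obj (Coh.toAb Q)) := by
  have hF : TopCat.Sheaf.IsFlasque (Coh.toAb Q) := PushMV.isFlasque_of_injective Q
  exact Groth.L04.SupportSh.isZero_HZsh_succ U _ q fun V =>
    Groth.L04.SupportSh.res_surjective_of_flasque _ hF q _

theorem nonempty_toAb_HZsh [HasInjectiveResolutions (ModSite.Mod X.sheaf)] (M : X.Modules) (q : ℕ) :
    Nonempty (Coh.toAb ((ModSite.HZsh X.sheaf U q).obj M) ≅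
      (LocCohZ.HZsh (X := X.toTopCat) U q).obj (Coh.toAb M)) := by
  haveI : HasInjectiveResolutions X.Modules := ‹HasInjectiveResolutions (ModSite.Mod X.sheaf)›
  let G : X.Modules ⥤ X.Modules := DCoh.gammaZ U.ι
  haveI : G.Additive := inferInstanceAs (DCoh.gammaZ U.ι).Additive
  haveI : (DCoh.gammaZ U.ι : ModSite.Mod X.sheaf ⥤ ModSite.Mod X.sheaf).Additive :=
    inferInstanceAs (DCoh.gammaZ U.ι).Additive
  let e₀ : (ModSite.HZsh X.sheaf U q).obj M ≅ (G.rightDerived q).obj M :=
    (Groth.L15.ModTensor.rdIso (sectOnGammaIso U) q).app M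
  obtain ⟨α⟩ := nonempty_gammaZ_toAb U
  haveI : PreservesFiniteLimits (toAbShF X) :=
    inferInstanceAs (PreservesFiniteLimits (SheafOfModules.toSheaf.{u} X.ringCatSheaf))
  haveI : PreservesFiniteColimits (toAbShF X) :=
    inferInstanceAs (PreservesFiniteColimits (SheafOfModules.toSheaf.{u} X.ringCatSheaf))
  obtain ⟨e₁⟩ := Groth.L27.StalkRpush.nonempty_rightDerived_comp_exact G (toAbShF X) q
  obtain ⟨e₂⟩ := rightDerived_natIso α M q
  haveI := preservesFiniteLimits_sectSuppF (T := X.toTopCat) U
  letI := HasDerivedCategory.standard (Sheaf (Opens.grothendieckTopology X) AddCommGrpCat.{u})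
  obtain ⟨e₃⟩ := GrothSS.nonempty_rightDerived_exact_comp (toAbShF X) (LocCohZ.sectSuppF (X := X.toTopCat) U)
    (fun Q hQ q hq => by
      obtain ⟨k, rfl⟩ : ∃ k, q = k + 1 := ⟨q - 1, by omega⟩
      exact isFlasque_injective_HZsh_zero U Q k) M q
  exact ⟨(SheafOfModules.toSheaf.{u} X.ringCatSheaf).mapIso e₀ ≪≫ (e₁.app M).symm ≪≫ e₂ ≪≫ e₃⟩

/-- Vanishing can be tested on the underlying abelian sheaves. -/
theorem isZero_HZsh_iff [HasInjectiveResolutions (ModSite.Mod X.sheaf)] (M : X.Modules) (q : ℕ) :
    IsZero ((ModSite.HZsh X.sheaf U q).obj M) ↔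
      IsZero ((LocCohZ.HZsh (X := X.toTopCat) U q).obj (Coh.toAb M)) := by
  obtain ⟨e⟩ := nonempty_toAb_HZsh U M q
  constructor
  · intro h
    exact ((SheafOfModules.toSheaf.{u} X.ringCatSheaf).map_isZero h).of_iso e.symm
  · intro h
    refine (IsZero.iff_id_eq_zero _).2 ((SheafOfModules.toSheaf.{u} X.ringCatSheaf).map_injective ?_)
    exact (h.of_iso e).eq_of_src _ _

end Groth.L04.ExtZ
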