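import Groth.Agent.L04.ExtZ.Funct
import Groth.Agent.L17.Duality
import Groth.Agent.L22.ExtSh.Coherence
import Groth.Agent.L04.SupportSh.FunctorLES

/-!
# Exact sequences for Ext sheaves with supports
-/

set_option autoImplicit false
set_option backward.isDefEq.respectTransparency false
set_option linter.style.haveILetI false
set_option linter.unusedSectionVars false
universe u v v' u'

open CategoryTheory CategoryTheory.Limits Opposite AlgebraicGeometry TopologicalSpace

noncomputable section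

namespace Groth.L04.ExtZ

open Groth.L15.ExtSupp

section Abstract

variable {C : Type u} [Category.{v} C] [Abelian C] [HasInjectiveResolutions C]
  {D : Type u'} [Category.{v'} D] [Abelian D]
  {F₁ F₂ F₃ : C ⥤ D} [F₁.Additive] [F₂.Additive] [F₃.Additive]

theorem conj_exact {A B E A' B' E' : D} (a : A ≅ A') (b : B ≅ B') (c : E ≅ E') {f : A ⟶ B} {g : B ⟶ E}
    {m : A' ⟶ B'} {k : B' ⟶ E'} (hf : f = a.hom ≫ m ≫ b.inv) (hg : g = b.hom ≫ k ≫ c.inv) (hw : f ≫ g = 0)
    (w : m ≫ k = 0) (h : (ShortComplex.mk m k w).Exact) : (ShortComplex.mk f g hw).Exact :=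
  (ShortComplex.exact_iff_of_iso (ShortComplex.isoMk a b c (by simp [hf]) (by simp [hg]))).2 h

/-- The middle of the long exact sequence of a short exact sequence of functors. -/
theorem exact_rightDerived (φ : F₁ ⟶ F₂) (ψ : F₂ ⟶ F₃) (w : ∀ X, φ.app X ≫ ψ.app X = 0)
    (hex : ∀ I : C, Injective I → (ShortComplex.mk (φ.app I) (ψ.app I) (w I)).ShortExact) (n : ℕ) (X : C) :
    ∃ h : (NatTrans.rightDerived φ n).app X ≫ (NatTrans.rightDerived ψ n).app X = 0,
      (ShortComplex.mk _ _ h).Exact := by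
  let S : ShortComplex (CochainComplex D ℕ) := ShortComplex.mk
    ((NatTrans.mapHomologicalComplex φ (.up ℕ)).app (injectiveResolution X).cocomplex)
    ((NatTrans.mapHomologicalComplex ψ (.up ℕ)).app (injectiveResolution X).cocomplex) (by
      ext i
      exact w _)
  have hS : S.ShortExact :=
    HomologicalComplex.shortExact_of_degreewise_shortExact S fun i => hex _ ((injectiveResolution X).injective i)
  have e₁ := InjectiveResolution.rightDerived_app_eq φ (injectiveResolution X) n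
  have e₂ := InjectiveResolution.rightDerived_app_eq ψ (injectiveResolution X) n
  have hw : (NatTrans.rightDerived φ n).app X ≫ (NatTrans.rightDerived ψ n).app X = 0 :=
    (congrArg (· ≫ _) e₁).trans ((congrArg (_ ≫ ·) e₂).trans (Groth.L04.FunctorLES.conj_comp_zero _ _ _ _ _
      ((HomologicalComplex.homologyMap_comp S.f S.g n).symm.trans
        ((congrArg (HomologicalComplex.homologyMap · n) S.zero).trans
          (HomologicalComplex.homologyMap_zero _ _ n)))))
  exact ⟨hw, conj_exact _ _ _ e₁ e₂ hw _ (hS.homology_exact₂ n)⟩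

theorem isZero_rightDerived_mid (φ : F₁ ⟶ F₂) (ψ : F₂ ⟶ F₃) (w : ∀ X, φ.app X ≫ ψ.app X = 0)
    (hex : ∀ I : C, Injective I → (ShortComplex.mk (φ.app I) (ψ.app I) (w I)).ShortExact) (n : ℕ) (X : C)
    (h₁ : IsZero ((F₁.rightDerived n).obj X)) (h₃ : IsZero ((F₃.rightDerived n).obj X)) :
    IsZero ((F₂.rightDerived n).obj X) := by
  obtain ⟨h, he⟩ := exact_rightDerived φ ψ w hex n X
  exact he.isZero_of_both_zeros (h₁.eq_of_src _ _) (h₃.eq_of_tgt _ _)

theorem mono_rightDerived_mid (φ : F₁ ⟶ F₂) (ψ : F₂ ⟶ F₃) (w : ∀ X, φ.app X ≫ ψ.app X = 0)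
    (hex : ∀ I : C, Injective I → (ShortComplex.mk (φ.app I) (ψ.app I) (w I)).ShortExact) (n : ℕ) (X : C)
    (h₁ : IsZero ((F₁.rightDerived n).obj X)) :
    Mono ((NatTrans.rightDerived ψ n).app X) := by
  obtain ⟨h, he⟩ := exact_rightDerived φ ψ w hex n X
  exact he.mono_g (h₁.eq_of_src _ _)

end Abstract

variable {X : Scheme.{u}}

theorem hasHom (M : X.Modules) : ModSite.HasSheafHom (O := X.sheaf) M := Groth.L17.Duality.hasSheafHom M

section Split

variable {D : Type*} [Category D] [Abelian D] (T : D ⥤ ModSite.Mod X.sheaf) [T.Additive] [HasInjectiveResolutions D]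
  (U₁ U₂ : X.Opens)

/-- Supports in a disjoint union. -/
theorem isZero_rightDerived_split (h : U₁ ⊔ U₂ = ⊤) (n : ℕ) (A : D)
    (h₁ : IsZero (((T ⋙ ModSite.sectOn X.sheaf U₁).rightDerived n).obj A))
    (h₂ : IsZero (((T ⋙ ModSite.sectOn X.sheaf U₂).rightDerived n).obj A)) :
    IsZero (((T ⋙ ModSite.sectOn X.sheaf (U₁ ⊓ U₂)).rightDerived n).obj A) := by
  have hi : ∀ N, IsIso (sumHom U₁ U₂ N) := isIso_sumHom U₁ U₂ h
  let φ : T ⋙ ModSite.sectOn X.sheaf U₁ ⟶ T ⋙ ModSite.sectOn X.sheaf (U₁ ⊓ U₂) :=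
    Functor.whiskerLeft T (inclLE inf_le_left)
  let ψ : T ⋙ ModSite.sectOn X.sheaf (U₁ ⊓ U₂) ⟶ T ⋙ ModSite.sectOn X.sheaf U₂ :=
    Functor.whiskerLeft T
      { app := fun N => haveI := hi N; inv (sumHom U₁ U₂ N) ≫ biprod.snd
        naturality := fun N N' g => by
          haveI := hi N
          haveI := hi N'
          refine (cancel_epi (sumHom U₁ U₂ N)).1 ?_
          refine biprod.hom_ext' _ _ ?_ ?_
          · have e : biprod.inl ≫ sumHom U₁ U₂ N ≫ (ModSite.sectOn X.sheaf (U₁ ⊓ U₂)).map g =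
                (ModSite.sectOn X.sheaf U₁).map g ≫ biprod.inl ≫ sumHom U₁ U₂ N' := by
              simp only [sumHom, biprod.inl_desc, biprod.inl_desc_assoc]
              exact ((inclLE inf_le_left).naturality g).symm
            rw [reassoc_of% e]
            simp [sumHom]
          · have e : biprod.inr ≫ sumHom U₁ U₂ N ≫ (ModSite.sectOn X.sheaf (U₁ ⊓ U₂)).map g =
                (ModSite.sectOn X.sheaf U₂).map g ≫ biprod.inr ≫ sumHom U₁ U₂ N' := by
              simp only [sumHom, biprod.inr_desc, biprod.inr_desc_assoc]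
              exact ((inclLE inf_le_right).naturality g).symm
            rw [reassoc_of% e]
            simp }
  have hl : ∀ N, (inclLE (inf_le_left : U₁ ⊓ U₂ ≤ U₁)).app N = biprod.inl ≫ sumHom U₁ U₂ N := fun N => by
    simp [sumHom]
  have w : ∀ N, φ.app N ≫ ψ.app N = 0 := fun N => by
    haveI := hi (T.obj N)
    show (inclLE inf_le_left).app (T.obj N) ≫ inv (sumHom U₁ U₂ (T.obj N)) ≫ biprod.snd = 0
    rw [hl, Category.assoc, IsIso.hom_inv_id_assoc, biprod.inl_snd]
  refine isZero_rightDerived_mid φ ψ w (fun I _ => ?_) n A h₁ h₂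
  haveI := hi (T.obj I)
  let e := asIso (sumHom U₁ U₂ (T.obj I))
  let S := ShortComplex.mk (biprod.inl : (ModSite.sectOn X.sheaf U₁).obj (T.obj I) ⟶ _)
    (biprod.snd : _ ⟶ (ModSite.sectOn X.sheaf U₂).obj (T.obj I)) biprod.inl_snd
  refine ShortComplex.shortExact_of_iso (ShortComplex.isoMk (S₁ := S) (Iso.refl _) e (Iso.refl _) ?_ ?_)
    (ShortComplex.Splitting.ofHasBinaryBiproduct ((ModSite.sectOn X.sheaf U₁).obj (T.obj I))
      ((ModSite.sectOn X.sheaf U₂).obj (T.obj I))).shortExact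
  · exact (Category.id_comp _).trans (hl _)
  · show e.hom ≫ inv (sumHom U₁ U₂ (T.obj I)) ≫ biprod.snd = biprod.snd ≫ 𝟙 _
    simp [e]

end Split

section First

open Groth.L16.HomSh Groth.L22.ExtSh
open Groth.L22.PDual (pre')

variable (U : X.Opens)

/-- `Hom(M, Γ_Z -)`. -/
abbrev homG (M : X.Modules) : ModSite.Mod X.sheaf ⥤ ModSite.Mod X.sheaf :=
  ModSite.sectOn X.sheaf U ⋙ (homModF M : ModSite.Mod X.sheaf ⥤ ModSite.Mod X.sheaf)

instance additive_homG (M : X.Modules) : (homG U M).Additive :=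
  haveI : (homModF M : ModSite.Mod X.sheaf ⥤ ModSite.Mod X.sheaf).Additive := additive_homModF M
  inferInstance

/-- `Γ_Z Hom(M, -)` is `Hom(M, Γ_Z -)`. -/
def homGIso (M : X.Modules) [ModSite.HasSheafHom (O := X.sheaf) M] :
    homG U M ≅ ModSite.sheafHom (O := X.sheaf) M ⋙ ModSite.sectOn X.sheaf U :=
  (Functor.isoWhiskerLeft (ModSite.sectOn X.sheaf U) (homModSiteIso M)).symm ≪≫ homSectIso (O := X.sheaf) U M

variable [HasInjectiveResolutions (ModSite.Mod X.sheaf)]

/-- The exact sequence in the first argument. -/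
theorem exists_mono_extZSh [IsLocallyNoetherian X] {S : ShortComplex X.Modules} (hS : S.ShortExact)
    (h₁ : Coh.IsCoh S.X₁) (h₂ : Coh.IsCoh S.X₂) (h₃ : Coh.IsCoh S.X₃)
    [ModSite.HasSheafHom (O := X.sheaf) S.X₁] [ModSite.HasSheafHom (O := X.sheaf) S.X₂]
    [ModSite.HasSheafHom (O := X.sheaf) S.X₃] (G : X.Modules) (i : ℕ)
    (h : IsZero ((ModSite.extZSh (O := X.sheaf) U S.X₃ i).obj G)) :
    ∃ f : (ModSite.extZSh (O := X.sheaf) U S.X₂ i).obj G ⟶ (ModSite.extZSh (O := X.sheaf) U S.X₁ i).obj G,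
      Mono f := by
  let φ : homG U S.X₃ ⟶ homG U S.X₂ :=
    Functor.whiskerLeft (ModSite.sectOn X.sheaf U)
      (preNat S.g : (homModF S.X₃ : ModSite.Mod X.sheaf ⥤ ModSite.Mod X.sheaf) ⟶ homModF S.X₂)
  let ψ : homG U S.X₂ ⟶ homG U S.X₁ :=
    Functor.whiskerLeft (ModSite.sectOn X.sheaf U)
      (preNat S.f : (homModF S.X₂ : ModSite.Mod X.sheaf ⥤ ModSite.Mod X.sheaf) ⟶ homModF S.X₁)
  have w : ∀ N, φ.app N ≫ ψ.app N = 0 := fun N => by
    show pre' ((ModSite.sectOn X.sheaf U).obj N) S.g ≫ pre' ((ModSite.sectOn X.sheaf U).obj N) S.f = 0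
    rw [← Groth.L22.PDual.pre'_comp, S.zero, Groth.L22.PDual.pre'_zero]
  let e : ∀ (M : X.Modules) [ModSite.HasSheafHom (O := X.sheaf) M],
      ((homG U M).rightDerived i).obj G ≅ (ModSite.extZSh (O := X.sheaf) U M i).obj G := fun M _ =>
    (Groth.L15.ModTensor.rdIso (homGIso U M) i).app G
  have hmono := mono_rightDerived_mid φ ψ w (fun I hI => ?_) i G (h.of_iso (e S.X₃))
  · exact ⟨(e S.X₂).inv ≫ (NatTrans.rightDerived ψ i).app G ≫ (e S.X₁).hom, inferInstance⟩
  · haveI : Injective (C := X.Modules) ((ModSite.sectOn X.sheaf U).obj I) :=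
      injective_sectOn (O := X.sheaf) U I
    exact shortExact_pre hS h₁ h₂ h₃ ((ModSite.sectOn X.sheaf U).obj I)

end First

end Groth.L04.ExtZ
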