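import Groth.Agent.L15.ExtSupp.HomZ
import Groth.Agent.L15.ModTensor.RestrDerived
import Groth.Agent.L16.ExtZSh.QCoh
import Groth.Agent.L18.GammaLC

/-!
# Sections with supports and sheaf Hom
-/

set_option autoImplicit false
set_option backward.isDefEq.respectTransparency false
set_option linter.style.haveILetI false
set_option linter.unusedSectionVars false
universe u

open CategoryTheory CategoryTheory.Limits Opposite AlgebraicGeometry TopologicalSpace

noncomputable section

namespace Groth.L04.ExtZ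

open Groth.L15.ExtSupp

section Site

variable {C : Type u} [SmallCategory C] {J : GrothendieckTopology C} {O : Sheaf J CommRingCat.{u}} (U : C)
  [ModSite.HasPushOver O U]

theorem restr_sectOnι (N : ModSite.Mod O) : (ModSite.restr O U).map ((ModSite.sectOnι O U).app N) = 0 :=
  (unit_comp_eq_zero_iff U _).1 (kernel.condition _)

variable (M : ModSite.Mod O) [ModSite.HasSheafHom M]

theorem adjunct_map {N N' A : ModSite.Mod O} (a : A ⟶ (ModSite.sheafHom M).obj N) (g : N ⟶ N') :
    ((ModSite.sheafHomAdj M).homEquiv A N').symm (a ≫ (ModSite.sheafHom M).map g) =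
      ((ModSite.sheafHomAdj M).homEquiv A N).symm a ≫ g :=
  Adjunction.homEquiv_naturality_right_symm _ _ _

theorem sheafHom_map_unit_eq_zero_iff {A N : ModSite.Mod O} (a : A ⟶ (ModSite.sheafHom M).obj N) :
    a ≫ (ModSite.sheafHom M).map ((ModSite.restrPushOverAdj O U).unit.app N) = 0 ↔
      a ≫ (ModSite.restrPushOverAdj O U).unit.app ((ModSite.sheafHom M).obj N) = 0 := by
  refine Iff.trans ?_ (((restr_adjunct_eq_zero_iff U M a).trans (unit_comp_eq_zero_iff U _).symm).symm.trans
    (unit_comp_eq_zero_iff U a).symm)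
  rw [← adjunct_map M a]
  constructor
  · intro h
    refine (congrArg ((ModSite.sheafHomAdj M).homEquiv A _).symm h).trans ?_
    exact (ModSite.sheafHomAdj M).homAddEquiv A _ |>.symm.map_zero
  · intro h
    refine ((ModSite.sheafHomAdj M).homEquiv A _).symm.injective (h.trans ?_)
    exact ((ModSite.sheafHomAdj M).homAddEquiv A _ |>.symm.map_zero).symm

theorem homι_comp_unit (N : ModSite.Mod O) :
    (ModSite.sheafHom M).map ((ModSite.sectOnι O U).app N) ≫
      (ModSite.restrPushOverAdj O U).unit.app ((ModSite.sheafHom M).obj N) = 0 := by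
  refine (sheafHom_map_unit_eq_zero_iff U M _).1 ?_
  exact ((ModSite.sheafHom M).map_comp _ _).symm.trans
    ((congrArg (ModSite.sheafHom M).map (kernel.condition _)).trans (Functor.map_zero _ _ _))

theorem ι_comp_homUnit (N : ModSite.Mod O) :
    (ModSite.sectOnι O U).app ((ModSite.sheafHom M).obj N) ≫
      (ModSite.sheafHom M).map ((ModSite.restrPushOverAdj O U).unit.app N) = 0 :=
  (sheafHom_map_unit_eq_zero_iff U M _).2 (kernel.condition _)

/-- `Hom(M, Γ_Z N) ≅ Γ_Z Hom(M, N)`, on objects. -/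
def homSectApp (N : ModSite.Mod O) :
    (ModSite.sheafHom M).obj ((ModSite.sectOn O U).obj N) ≅
      (ModSite.sectOn O U).obj ((ModSite.sheafHom M).obj N) :=
  haveI : (ModSite.sheafHom M).IsRightAdjoint := (ModSite.sheafHomAdj M).isRightAdjoint
  Groth.L15.ModTensor.kerIso (ModSite.sheafHom M) ((ModSite.restrPushOverAdj O U).unit.app N)
    ((ModSite.restrPushOverAdj O U).unit.app ((ModSite.sheafHom M).obj N))
    (homι_comp_unit U M N) (ι_comp_homUnit U M N)

/-- `Hom(M, Γ_Z -) ≅ Γ_Z Hom(M, -)`. -/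
def homSectIso : ModSite.sectOn O U ⋙ ModSite.sheafHom M ≅ ModSite.sheafHom M ⋙ ModSite.sectOn O U :=
  NatIso.ofComponents (homSectApp U M) fun {F G} a => by
    haveI : (ModSite.sheafHom M).IsRightAdjoint := (ModSite.sheafHomAdj M).isRightAdjoint
    have e₁ : ∀ H : ModSite.Mod O, (homSectApp U M H).hom ≫
        (ModSite.sectOnι O U).app ((ModSite.sheafHom M).obj H) =
          (ModSite.sheafHom M).map ((ModSite.sectOnι O U).app H) := fun H =>
      Groth.L15.ModTensor.kerIso_hom_ι _ _ _ _ _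
    have e₂ := (ModSite.sectOnι O U).naturality ((ModSite.sheafHom M).map a)
    have e₃ := (ModSite.sectOnι O U).naturality a
    refine (cancel_mono ((ModSite.sectOnι O U).app ((ModSite.sheafHom M).obj G))).1 ?_
    refine ((Category.assoc _ _ _).trans (congrArg (_ ≫ ·) (e₁ G))).trans ?_
    refine Eq.trans ?_ (((Category.assoc _ _ _).trans (congrArg (_ ≫ ·) e₂)).trans
      ((Category.assoc _ _ _).symm.trans (congrArg (· ≫ _) (e₁ F)))).symm
    exact (((ModSite.sheafHom M).map_comp _ _).symm.trans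
      (congrArg (ModSite.sheafHom M).map e₃)).trans ((ModSite.sheafHom M).map_comp _ _)

variable (W : C) [ModSite.HasPushOver O W]

/-- Two sections-with-supports functors agree after `T` if they have the same test maps. -/
def sectIsoOfIff {D : Type*} [Category D] (T : D ⥤ ModSite.Mod O)
    (h : ∀ (N : D) (A : ModSite.Mod O) (a : A ⟶ T.obj N),
      (ModSite.restr O U).map a = 0 ↔ (ModSite.restr O W).map a = 0) :
    T ⋙ ModSite.sectOn O U ≅ T ⋙ ModSite.sectOn O W :=
  NatIso.ofComponents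
    (fun N =>
      { hom := kernel.lift _ ((ModSite.sectOnι O U).app (T.obj N))
          ((unit_comp_eq_zero_iff W _).2 ((h N _ _).1 (restr_sectOnι U (T.obj N))))
        inv := kernel.lift _ ((ModSite.sectOnι O W).app (T.obj N))
          ((unit_comp_eq_zero_iff U _).2 ((h N _ _).2 (restr_sectOnι W (T.obj N))))
        hom_inv_id := equalizer.hom_ext (by simp [ModSite.sectOnι])
        inv_hom_id := equalizer.hom_ext (by simp [ModSite.sectOnι]) })
    fun {N N'} g => by
      refine (cancel_mono ((ModSite.sectOnι O W).app (T.obj N'))).1 ?_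
      refine (Category.assoc _ _ _).trans ?_
      refine (congrArg (_ ≫ ·) (kernel.lift_ι _ _ _)).trans ?_
      refine ((ModSite.sectOnι O U).naturality (T.map g)).trans ?_
      refine Eq.trans ?_ (Category.assoc _ _ _).symm
      refine Eq.trans ?_ (congrArg (_ ≫ ·) ((ModSite.sectOnι O W).naturality (T.map g))).symm
      refine Eq.trans ?_ (Category.assoc _ _ _)
      exact congrArg (· ≫ _) (kernel.lift_ι _ _ _).symm

end Site

section Opens

variable {X : Scheme.{u}}

theorem restr_mono {M N : ModSite.Mod X.sheaf} (a : M ⟶ N) {U W : X.Opens} (h : W ≤ U)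
    (ha : (ModSite.restr X.sheaf U).map a = 0) : (ModSite.restr X.sheaf W).map a = 0 :=
  restr_map_eq_zero W a fun _ g x => val_app_eq_zero_of_restr U a ha (g ≫ homOfLE h) x

theorem restr_sup {M N : ModSite.Mod X.sheaf} (a : M ⟶ N) {U W V₀ : X.Opens} (h : V₀ ≤ U ⊔ W)
    (hU : (ModSite.restr X.sheaf U).map a = 0) (hW : (ModSite.restr X.sheaf W).map a = 0) :
    (ModSite.restr X.sheaf V₀).map a = 0 := by
  refine restr_map_eq_zero V₀ a fun V g x => ?_
  refine sect_ext N (Sieve.generate (Presieve.ofArrows (fun b : Bool => if b then V ⊓ U else V ⊓ W)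
    (fun b => homOfLE (by cases b <;> exact inf_le_left)))) ?_ _ _ fun Y f hf => ?_
  · intro y hy
    rcases Set.mem_or_mem_of_mem_union (show y ∈ (U : Set X) ∪ W from (leOfHom g |>.trans h) hy) with hyU | hyW
    · exact ⟨V ⊓ U, homOfLE inf_le_left, ⟨_, 𝟙 _, _, Presieve.ofArrows.mk true, by simp⟩, hy, hyU⟩
    · exact ⟨V ⊓ W, homOfLE inf_le_left, ⟨_, 𝟙 _, _, Presieve.ofArrows.mk false, by simp⟩, hy, hyW⟩
  · obtain ⟨Z, k, l, hl, rfl⟩ := hf
    refine (res_natural a (k ≫ l) x).trans (Eq.trans ?_ (map_zero (N.val.map (k ≫ l).op).hom).symm)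
    cases hl with
    | mk b =>
      cases b
      · exact val_app_eq_zero_of_restr W a hW (homOfLE ((leOfHom k).trans inf_le_right)) _
      · exact val_app_eq_zero_of_restr U a hU (homOfLE ((leOfHom k).trans inf_le_right)) _

/-- A map killed below `U₁ ⊓ U₂` is killed below `U₂` after `j_!` from `U₁`. -/
theorem restr_counit_comp {M N : ModSite.Mod X.sheaf} (b : M ⟶ N) (U₁ U₂ : X.Opens)
    (h : (ModSite.restr X.sheaf (U₁ ⊓ U₂)).map b = 0) :
    (ModSite.restr X.sheaf U₂).map ((ModSite.extZeroAdj X.sheaf U₁).counit.app M ≫ b) = 0 := by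
  let G := (ModSite.extZero X.sheaf U₁).obj ((ModSite.restr X.sheaf U₁).obj M)
  let a : G ⟶ N := (ModSite.extZeroAdj X.sheaf U₁).counit.app M ≫ b
  refine restr_map_eq_zero U₂ a fun V g x => ?_
  obtain ⟨S, hS, hg⟩ := exists_sieve_of_π_eq_zero U₁ G (x := x) (by
    rw [π_eq_zero_extZero U₁ ((ModSite.restr X.sheaf U₁).obj M)]; rfl)
  refine sect_ext N S hS (a.val.app (op V) x) 0 fun W f hf => ?_
  refine Eq.trans ?_ (map_zero (N.val.map f.op).hom).symm
  refine (res_natural a f x).trans ?_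
  rcases hg f hf with ⟨⟨gU⟩⟩ | h0
  · exact val_app_eq_zero_of_restr (U₁ ⊓ U₂) b h
      (homOfLE (le_inf (leOfHom gU) ((leOfHom f).trans (leOfHom g)))) _
  · exact (congrArg (a.val.app (op W)) h0).trans (map_zero _)

variable (U₁ U₂ : X.Opens)

/-- The inclusion of supports. -/
def inclLE {U W : X.Opens} (h : W ≤ U) : ModSite.sectOn X.sheaf U ⟶ ModSite.sectOn X.sheaf W where
  app N := kernel.lift _ ((ModSite.sectOnι X.sheaf U).app N)
    ((unit_comp_eq_zero_iff W _).2 (restr_mono _ h (restr_sectOnι U N)))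
  naturality N N' g := by
    refine (cancel_mono ((ModSite.sectOnι X.sheaf W).app N')).1 ?_
    refine (Category.assoc _ _ _).trans ?_
    refine (congrArg (_ ≫ ·) (kernel.lift_ι _ _ _)).trans ?_
    refine ((ModSite.sectOnι X.sheaf U).naturality g).trans ?_
    refine Eq.trans ?_ (Category.assoc _ _ _).symm
    refine Eq.trans ?_ (congrArg (_ ≫ ·) ((ModSite.sectOnι X.sheaf W).naturality g)).symm
    refine Eq.trans ?_ (Category.assoc _ _ _)
    exact congrArg (· ≫ _) (kernel.lift_ι _ _ _).symm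

theorem inclLE_ι {U W : X.Opens} (h : W ≤ U) (N : ModSite.Mod X.sheaf) :
    (inclLE h).app N ≫ (ModSite.sectOnι X.sheaf W).app N = (ModSite.sectOnι X.sheaf U).app N :=
  kernel.lift_ι _ _ _

/-- The comparison `Γ_{Z₁} ⊕ Γ_{Z₂} ⟶ Γ_{Z₁ ∪ Z₂}`. -/
def sumHom (N : ModSite.Mod X.sheaf) :
    (ModSite.sectOn X.sheaf U₁).obj N ⊞ (ModSite.sectOn X.sheaf U₂).obj N ⟶
      (ModSite.sectOn X.sheaf (U₁ ⊓ U₂)).obj N :=
  biprod.desc ((inclLE inf_le_left).app N) ((inclLE inf_le_right).app N)

theorem isIso_sumHom (h : U₁ ⊔ U₂ = ⊤) (N : ModSite.Mod X.sheaf) : IsIso (sumHom U₁ U₂ N) := by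
  have htop : ∀ {A B : ModSite.Mod X.sheaf} (a : A ⟶ B),
      (ModSite.restr X.sheaf U₁).map a = 0 → (ModSite.restr X.sheaf U₂).map a = 0 → a = 0 := fun a h₁ h₂ => by
    refine SheafOfModules.Hom.ext (PresheafOfModules.hom_ext fun V => ModuleCat.hom_ext (LinearMap.ext fun y => ?_))
    exact val_app_eq_zero_of_restr (⊤ : X.Opens) a (restr_sup a h.ge h₁ h₂) (homOfLE le_top) y
  let ι₁ := (ModSite.sectOnι X.sheaf U₁).app N
  let ι₂ := (ModSite.sectOnι X.sheaf U₂).app N
  haveI : Mono (sumHom U₁ U₂ N) := by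
    refine Preadditive.mono_of_cancel_zero _ fun {G} c hc => ?_
    have h0 : (c ≫ biprod.fst) ≫ ι₁ + (c ≫ biprod.snd) ≫ ι₂ = 0 := by
      have h' := congrArg (· ≫ (ModSite.sectOnι X.sheaf (U₁ ⊓ U₂)).app N) hc
      refine Eq.trans ?_ (h'.trans zero_comp)
      simp only [sumHom, biprod.desc_eq, Category.assoc, Preadditive.comp_add, Preadditive.add_comp]
      rw [inclLE_ι, inclLE_ι]
    have r₁ : (ModSite.restr X.sheaf U₁).map ((c ≫ biprod.fst) ≫ ι₁) = 0 := by
      rw [Functor.map_comp, restr_sectOnι, comp_zero]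
    have r₂ : (ModSite.restr X.sheaf U₂).map ((c ≫ biprod.fst) ≫ ι₁) = 0 := by
      rw [eq_neg_of_add_eq_zero_left h0, Functor.map_neg, Functor.map_comp, restr_sectOnι, comp_zero, neg_zero]
    have z₁ : (c ≫ biprod.fst) ≫ ι₁ = 0 := htop _ r₁ r₂
    have z₂ : (c ≫ biprod.snd) ≫ ι₂ = 0 := by rwa [z₁, zero_add] at h0
    refine biprod.hom_ext _ _ ?_ ?_
    · exact ((cancel_mono ι₁).1 (z₁.trans zero_comp.symm)).trans zero_comp.symm
    · exact ((cancel_mono ι₂).1 (z₂.trans zero_comp.symm)).trans zero_comp.symm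
  haveI : Epi (sumHom U₁ U₂ N) := by
    refine Preadditive.epi_of_cancel_zero _ fun {G} g hg => ?_
    have g₁ : (inclLE inf_le_left).app N ≫ g = 0 := by
      have h' := congrArg (biprod.inl ≫ ·) hg
      simpa [sumHom] using h'
    have g₂ : (inclLE inf_le_right).app N ≫ g = 0 := by
      have h' := congrArg (biprod.inr ≫ ·) hg
      simpa [sumHom] using h'
    have key : ∀ (A B : X.Opens) (hAB : U₁ ⊓ U₂ ≤ B) (_ : A ⊓ B ≤ U₁ ⊓ U₂),
        (inclLE hAB).app N ≫ g = 0 → (ModSite.restr X.sheaf A).map g = 0 := fun A B hAB hA hgB => by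
      refine (counit_comp_eq_zero_iff A g).1 ?_
      let ι := (ModSite.sectOnι X.sheaf (U₁ ⊓ U₂)).app N
      have hk : (ModSite.restr X.sheaf B).map
          ((ModSite.extZeroAdj X.sheaf A).counit.app ((ModSite.sectOn X.sheaf (U₁ ⊓ U₂)).obj N) ≫ ι) = 0 :=
        restr_counit_comp ι A B (restr_mono ι hA (restr_sectOnι _ N))
      have hl : kernel.lift _ _ ((unit_comp_eq_zero_iff B _).2 hk) ≫ (inclLE hAB).app N =
          (ModSite.extZeroAdj X.sheaf A).counit.app _ := by
        refine (cancel_mono ι).1 ?_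
        rw [Category.assoc, inclLE_ι]
        exact kernel.lift_ι _ _ _
      rw [← hl, Category.assoc, hgB, comp_zero]
    exact htop g (key U₁ U₂ inf_le_right le_rfl g₂) (key U₂ U₁ inf_le_left (inf_comm U₂ U₁).le g₁)
  exact isIso_of_mono_of_epi _

end Opens

end Groth.L04.ExtZ
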