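import Groth.Agent.L04.SupportSh.AboveDim
import Groth.Agent.L04.SupportLoc
import Groth.Agent.L20.ModStalk
import Groth.Prelude.Def_CohB1

/-!
# Vanishing of local cohomology sheaves above the dimension of the support
-/

set_option autoImplicit false
set_option backward.isDefEq.respectTransparency false
set_option linter.style.haveILetI false

universe u

open CategoryTheory CategoryTheory.Limits Opposite TopologicalSpace AlgebraicGeometry

noncomputable section

namespace Groth.L04.ExtZ

section Algebra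

variable {A : Type u} [CommRing A] [IsNoetherianRing A]

theorem supportDim_localized_lt (N : Type u) [AddCommGroup N] [Module A N] (P : Ideal A) [P.IsPrime] (p q : ℕ)
    (hP : P.height < ((p + q : ℕ) : ℕ∞))
    (hN : ∀ z : PrimeSpectrum A, z ∈ Module.support A N → (p : ℕ∞) ≤ z.asIdeal.height) :
    Module.supportDim (Localization.AtPrime P) (LocalizedModule P.primeCompl N) < (q : WithBot ℕ∞) := by
  obtain _ | k := q
  · have he : Module.support (Localization.AtPrime P) (LocalizedModule P.primeCompl N) = ∅ :=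
      Set.eq_empty_iff_forall_notMem.2 fun z hz => by
        have h1 := hN _ ((Groth.L04.support_localization P z).1 hz)
        have h2 : (PrimeSpectrum.comap (algebraMap A (Localization.AtPrime P)) z).asIdeal ≤ P := fun r hr => by
          by_contra h
          exact z.isPrime.ne_top (Ideal.eq_top_of_isUnit_mem _ hr
            (IsLocalization.map_units (Localization.AtPrime P) (⟨r, h⟩ : P.primeCompl)))
        exact absurd ((h1.trans (Ideal.height_mono h2)).trans_lt (by simpa using hP)) (lt_irrefl _)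
    haveI : Subsingleton (LocalizedModule P.primeCompl N) := Module.support_eq_empty_iff.1 he
    rw [Module.supportDim_eq_bot_of_subsingleton]
    exact WithBot.bot_lt_coe _
  refine lt_of_le_of_lt (b := (k : WithBot ℕ∞)) ?_ (by exact_mod_cast Nat.lt_succ_self k)
  refine iSup_le fun s => ?_
  let f : Module.support (Localization.AtPrime P) (LocalizedModule P.primeCompl N) → PrimeSpectrum A :=
    fun z => PrimeSpectrum.comap (algebraMap A (Localization.AtPrime P)) z.1
  let e := IsLocalization.AtPrime.primeSpectrumOrderIso (Localization.AtPrime P) P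
  have hmono : StrictMono f := fun a b hab =>
    (Subtype.coe_lt_coe.2 (e.strictMono (show a.1 < b.1 from hab)) :)
  let s' := s.map f hmono
  have hlast : s'.last.asIdeal ≤ P := (e s.last.1).2
  have hhead : (p : ℕ∞) ≤ Order.height s'.head := by
    rw [← PrimeSpectrum.height_eq_orderHeight]
    exact hN _ ((Groth.L04.support_localization P s.head.1).1 s.head.2)
  obtain ⟨t, ht, htl⟩ := Order.exists_series_of_le_height s'.head hhead
  have h1 : ((p + s.length : ℕ) : ℕ∞) ≤ P.height := by
    refine le_trans ?_ (le_trans (PrimeSpectrum.height_eq_orderHeight s'.last).ge (Ideal.height_mono hlast))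
    refine le_trans ?_ (Order.length_le_height (p := t.smash s' ht) (x := s'.last) (le_of_eq ?_))
    · rw [RelSeries.smash_length, htl]
      exact le_rfl
    · exact RelSeries.last_smash ht
  have h2 := h1.trans_lt hP
  rw [Nat.cast_lt] at h2
  exact_mod_cast (by omega : s.length ≤ k)

theorem subsingleton_H_of_localized (I : Ideal A) (i : ℕ) (N : Type u) [AddCommGroup N] [Module A N]
    (h : ∀ (P : Ideal A) [P.IsPrime], I ≤ P →
      Module.supportDim (Localization.AtPrime P) (LocalizedModule P.primeCompl N) < (i : WithBot ℕ∞)) :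
    Subsingleton (LocCoh.H I i N) := by
  refine subsingleton_of_forall_eq 0 fun x => Module.eq_zero_of_localization_maximal
    (fun (P : Ideal A) _ => LocalizedModule P.primeCompl (LocCoh.H I i N))
    (fun P _ => LocalizedModule.mkLinearMap P.primeCompl (LocCoh.H I i N)) x fun P _ => ?_
  obtain ⟨e⟩ := Groth.L04.LC.nonempty_localizedModule_H_equiv I P.primeCompl i N
  haveI : IsNoetherianRing (Localization.AtPrime P) :=
    IsLocalization.isNoetherianRing P.primeCompl _ inferInstance
  haveI : Subsingleton (LocCoh.H (I.map (algebraMap A (Localization.AtPrime P))) i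
      (LocalizedModule P.primeCompl N)) := by
    by_cases hP : I ≤ P
    · exact Groth.L04.LC.subsingleton_H_of_supportDim_lt _ _ i (h P hP)
    · obtain ⟨a, ha, haq⟩ := SetLike.not_le_iff_exists.1 hP
      refine Groth.L04.LC.subsingleton_H_of_bijective _ i (r := (1 : Localization.AtPrime P)) ?_ ?_
      · rw [Ideal.eq_top_of_isUnit_mem _ (Ideal.mem_map_of_mem _ ha)
          (IsLocalization.map_units (Localization.AtPrime P) (⟨a, haq⟩ : P.primeCompl))]
        trivial
      · simp only [one_smul]
        exact Function.bijective_id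
  haveI := e.toEquiv.subsingleton
  exact Subsingleton.elim _ _

end Algebra

variable {X : Scheme.{u}} (U : X.Opens) (M : X.Modules)

theorem height_eq_dim_stalk {V : X.Opens} (hV : IsAffineOpen V) (q : PrimeSpectrum Γ(X, V)) :
    (q.asIdeal.height : WithBot ℕ∞) = ringKrullDim (X.presheaf.stalk (hV.fromSpec q)) := by
  have hx : hV.fromSpec q ∈ V := hV.opensRange_fromSpec.le ⟨_, rfl⟩
  have hqe : hV.primeIdealOf ⟨hV.fromSpec q, hx⟩ = q :=
    hV.fromSpec.isOpenEmbedding.injective (hV.fromSpec_primeIdealOf _)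
  letI := X.presheaf.algebra_section_stalk ⟨hV.fromSpec q, hx⟩
  haveI : IsLocalization.AtPrime (X.presheaf.stalk (hV.fromSpec q)) q.asIdeal := by
    have h := hV.isLocalization_stalk ⟨hV.fromSpec q, hx⟩
    rw [hqe] at h
    exact h
  exact (IsLocalization.AtPrime.ringKrullDim_eq_height q.asIdeal (X.presheaf.stalk (hV.fromSpec q))).symm

theorem res_affine_surjective_supp [IsLocallyNoetherian X] (hM : Coh.IsQCoh M) {V : X.Opens} (hV : IsAffineOpen V)
    (p k : ℕ) (hdim : ∀ x : X, x ∉ U → ringKrullDim (X.presheaf.stalk x) < ((p + (k + 1) : ℕ) : WithBot ℕ∞))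
    (hsupp : ∀ z ∈ CohB1.support M, (p : WithBot ℕ∞) ≤ ringKrullDim (X.presheaf.stalk z)) :
    Function.Surjective (CohTop.res (X := X.toTopCat) (Coh.toAb M) k (inf_le_left : V ⊓ U ≤ V)) := by
  haveI : Coh.IsQCoh M := hM
  haveI := IsLocallyNoetherian.component_noetherian ⟨V, hV⟩
  let j := hV.fromSpec
  haveI : (M.restrict j).IsQuasicoherent := Scheme.Modules.isQuasicoherent_restrictFunctor j M
  let N : ModuleCat.{u} Γ(X, V) := (moduleSpecΓFunctor (R := Γ(X, V))).obj (M.restrict j)
  haveI : IsIso (M.restrict j).fromTildeΓ :=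
    Scheme.Modules.isIso_fromTildeΓ_of_isQuasicoherent (R := Γ(X, V)) _
  let e : tilde N ≅ M.restrict j := asIso (M.restrict j).fromTildeΓ
  have e2 : j ''ᵁ (⊤ : (Spec Γ(X, V)).Opens) = V := by
    rw [Scheme.Hom.image_top_eq_opensRange, hV.opensRange_fromSpec]
  let W : (Spec Γ(X, V)).Opens := j ⁻¹ᵁ U
  let I : Ideal Γ(X, V) := PrimeSpectrum.vanishingIdeal (SetLike.coe W : Set (PrimeSpectrum Γ(X, V)))ᶜ
  have hI : W = LocCoh.puncturedOpen Γ(X, V) I := by
    apply Opens.ext
    show (SetLike.coe W : Set (PrimeSpectrum Γ(X, V))) = (PrimeSpectrum.zeroLocus (I : Set Γ(X, V)))ᶜ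
    rw [show (I : Ideal Γ(X, V)) = _ from rfl, PrimeSpectrum.zeroLocus_vanishingIdeal_eq_closure,
      W.isOpen.isClosed_compl.closure_eq, compl_compl]
  have hmem : ∀ q : PrimeSpectrum Γ(X, V), I ≤ q.asIdeal ↔ j q ∉ U := fun q => by
    have : q ∈ PrimeSpectrum.zeroLocus (I : Set Γ(X, V)) ↔ q ∉ W := by
      rw [hI]
      exact not_not.symm
    exact this
  have hH : Subsingleton (LocCoh.H I (k + 1) N) := subsingleton_H_of_localized I (k + 1) N fun P _ hP => by
    refine supportDim_localized_lt N P p (k + 1) ?_ fun z hz => ?_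
    · have h := hdim (j ⟨P, inferInstance⟩) ((hmem ⟨P, inferInstance⟩).1 hP)
      rw [← height_eq_dim_stalk hV ⟨P, inferInstance⟩] at h
      exact WithBot.coe_lt_coe.1 h
    · suffices hs : j z ∈ CohB1.support M by
        have h := hsupp _ hs
        rw [← height_eq_dim_stalk hV z] at h
        exact WithBot.coe_le_coe.1 h
      intro hsub
      rw [Module.mem_support_iff, ← not_subsingleton_iff_nontrivial] at hz
      refine hz ?_
      let a := (IsLocalizedModule.iso z.asIdeal.primeCompl (tilde.toStalk (R := Γ(X, V)) N z).hom).toEquiv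
      let b := ((TopCat.Presheaf.stalkFunctor AddCommGrpCat.{u} z).mapIso
        ((Scheme.Modules.toPresheaf (Spec Γ(X, V))).mapIso e)).addCommGroupIsoToAddEquiv
      let c := ((Scheme.Modules.restrictStalkNatIso j z).app M).addCommGroupIsoToAddEquiv
      haveI : Subsingleton ↑((Scheme.Modules.toPresheaf X ⋙ TopCat.Presheaf.stalkFunctor AddCommGrpCat.{u} (j z)).obj M) :=
        hsub
      exact (a.trans (b.toEquiv.trans c.toEquiv)).subsingleton
  let eA : Coh.toAb (tilde (R := CommRingCat.of Γ(X, V)) N) ≅ Coh.toAb (M.restrict j) :=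
    (SheafOfModules.toSheaf.{u} _).mapIso e
  have himg : j ''ᵁ W = V ⊓ U := by
    rw [Scheme.Hom.image_preimage_eq_opensRange_inf, hV.opensRange_fromSpec]
  obtain _ | k := k
  · refine (Groth.L04.SupportSh.res_zero_bijective_iff (X := X.toTopCat) (Coh.toAb M) _).2.2 ?_
    obtain ⟨-, hs⟩ := Groth.L04.SupportSh.res_iso_congr eA (le_top : LocCoh.puncturedOpen Γ(X, V) I ≤ ⊤)
    obtain ⟨-, hs'⟩ := Groth.L04.SupportSh.res_congr (Coh.toAb M) e2
      (show j ''ᵁ LocCoh.puncturedOpen Γ(X, V) I = V ⊓ U from hI ▸ himg)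
      (Scheme.Hom.image_mono j le_top) inf_le_left
    exact (hs.trans hs').1 (Groth.L04.SupportSh.punctured_surjective_of_H_one I N hH)
  obtain ⟨c⟩ := Groth.L04.Koszul.Cech.nonempty_hhon_punctured_localCohomology I N (k + 1) (by omega)
  have hpu : Subsingleton (Coh.HHon (Spec (CommRingCat.of Γ(X, V))) (tilde (R := CommRingCat.of Γ(X, V)) N)
    (LocCoh.puncturedOpen Γ(X, V) I) (k + 1)) := c.toEquiv.subsingleton_congr.2 hH
  suffices hs : Subsingleton (CohTop.HU (X := X.toTopCat) (Coh.toAb M) (k + 1) (V ⊓ U)) from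
    fun y => ⟨0, @Subsingleton.elim _ hs _ _⟩
  obtain ⟨a⟩ := Groth.L17.nonempty_hhon_equiv (tilde (R := CommRingCat.of Γ(X, V)) N) (LocCoh.puncturedOpen Γ(X, V) I) (k + 1)
  obtain ⟨b⟩ := Groth.L17.nonempty_hu_image j (LocCoh.puncturedOpen Γ(X, V) I) (Coh.toAb M) (k + 1)
  rw [show j ''ᵁ LocCoh.puncturedOpen Γ(X, V) I = V ⊓ U from hI ▸ himg] at b
  refine (a.toEquiv.subsingleton_congr.trans (Equiv.subsingleton_congr ?_)).1 hpu
  refine Equiv.trans ?_ b.symm.toEquiv
  exact { toFun := fun x => x.comp (Abelian.Ext.mk₀ eA.hom) (add_zero (k + 1))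
          invFun := fun x => x.comp (Abelian.Ext.mk₀ eA.inv) (add_zero (k + 1))
          left_inv := fun x => by simp
          right_inv := fun x => by simp }

/-- `ℋ^q_Y(M) = 0` if `dim O_y < p + q` on `Y` and `dim O_z ≥ p` on the support of `M`. -/
theorem isZero_HZsh_of_dims [IsLocallyNoetherian X] (hM : Coh.IsQCoh M) (p q : ℕ)
    (hdim : ∀ x : X, x ∉ U → ringKrullDim (X.presheaf.stalk x) < ((p + q : ℕ) : WithBot ℕ∞))
    (hsupp : ∀ z ∈ CohB1.support M, (p : WithBot ℕ∞) ≤ ringKrullDim (X.presheaf.stalk z)) :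
    IsZero ((LocCohZ.HZsh (X := X.toTopCat) U q).obj (Coh.toAb M)) := by
  obtain _ | k := q
  · refine Groth.L04.SupportSh.isZero_HZsh_zero (X := X.toTopCat) U _ fun V s t hst => ?_
    refine TopCat.Presheaf.section_ext ⟨M.presheaf, M.isSheaf⟩ V s t fun y hy => ?_
    by_cases hU : y ∈ U
    · exact TopCat.Presheaf.germ_ext M.presheaf (V ⊓ U) ⟨hy, hU⟩ (homOfLE inf_le_left) (homOfLE inf_le_left) hst
    · haveI : Subsingleton (M.presheaf.stalk y) := by
        by_contra hne
        exact absurd ((hsupp y hne).trans_lt (hdim y hU)) (lt_irrefl _)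
      exact Subsingleton.elim _ _
  · exact Groth.L04.SupportSh.isZero_HZsh_succ_of_basis (X := X.toTopCat) U _ k _ X.isBasis_affineOpens
      fun V hV => res_affine_surjective_supp U M hM hV p k hdim hsupp

end Groth.L04.ExtZ
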