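import Groth.Agent.L04.ExtZ.HighDim
import Groth.Agent.L04.RegularPd
import Groth.Agent.L21.RR.Coh

/-!
# Points of regular schemes: chains, strata by dimension, depth of the structure sheaf
-/

set_option autoImplicit false
set_option backward.isDefEq.respectTransparency false
set_option linter.style.haveILetI false

universe u

open CategoryTheory TopologicalSpace AlgebraicGeometry

noncomputable section

namespace Groth.L04.ExtZ

/-- A prime interval in a regular ring contains primes of every intermediate height. -/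
theorem exists_height_eq {R : Type u} [CommRing R] [IsRegularRing R] (p q : Ideal R) [p.IsPrime] [q.IsPrime]
    (hpq : p ≤ q) (n : ℕ) (hp : p.height ≤ n) (hq : (n : ℕ∞) ≤ q.height) :
    ∃ Q : Ideal R, Q.IsPrime ∧ p ≤ Q ∧ Q ≤ q ∧ Q.height = n := by
  haveI hN : IsNoetherianRing R := inferInstance
  obtain ⟨(Q : Ideal R), hmem, hmax⟩ :=
    set_has_maximal_iff_noetherian.2 hN
      {Q : Ideal R | Q.IsPrime ∧ p ≤ Q ∧ Q ≤ q ∧ Q.height ≤ n} ⟨p, ‹_›, le_rfl, hpq, hp⟩
  obtain ⟨hQ, hpQ, hQq, hQn⟩ := hmem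
  haveI := hQ
  refine ⟨Q, hQ, hpQ, hQq, le_antisymm hQn (not_lt.1 fun hlt => ?_)⟩
  have hne : Q ≠ q := by
    rintro rfl
    exact absurd (hlt.trans_le hq) (lt_irrefl _)
  obtain ⟨a, haq, haQ⟩ := SetLike.exists_of_lt (lt_of_le_of_ne hQq hne)
  obtain ⟨Q', hQ', hQ'q⟩ := Ideal.exists_minimalPrimes_le (I := Q ⊔ Ideal.span {a}) (J := q)
    (sup_le hQq ((Ideal.span_singleton_le_iff_mem _).2 haq))
  haveI := hQ'.1.1
  have hQQ' : Q ≤ Q' := le_sup_left.trans hQ'.1.2
  have h1 : (Q'.map (Ideal.Quotient.mk Q)).height ≤ 1 := by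
    haveI : (Q'.map (Ideal.Quotient.mk Q)).IsPrime :=
      Ideal.map_isPrime_of_surjective Ideal.Quotient.mk_surjective (by rwa [Ideal.mk_ker])
    haveI : ((Ideal.span {a}).map (Ideal.Quotient.mk Q)).IsPrincipal := by
      rw [Ideal.map_span, Set.image_singleton]
      exact ⟨⟨_, rfl⟩⟩
    refine Ideal.height_le_one_of_isPrincipal_of_mem_minimalPrimes
      ((Ideal.span {a}).map (Ideal.Quotient.mk Q)) (Q'.map (Ideal.Quotient.mk Q)) ?_
    · refine ⟨⟨inferInstance, Ideal.map_mono (le_sup_right.trans hQ'.1.2)⟩, fun J hJ hJle => ?_⟩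
      haveI := hJ.1
      have hcomap : Q' ≤ J.comap (Ideal.Quotient.mk Q) := by
        refine hQ'.2 ⟨Ideal.comap_isPrime _ _, sup_le ?_ ?_⟩ ?_
        · intro r hr
          rw [Ideal.mem_comap, Ideal.Quotient.eq_zero_iff_mem.2 hr]
          exact J.zero_mem
        · exact Ideal.map_le_iff_le_comap.1 hJ.2
        · refine (Ideal.comap_mono hJle).trans (le_of_eq ?_)
          rw [Ideal.comap_map_of_surjective _ Ideal.Quotient.mk_surjective, ← RingHom.ker_eq_comap_bot,
            Ideal.mk_ker, sup_of_le_left hQQ']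
      exact Ideal.map_le_iff_le_comap.2 hcomap
  have h2 : Q'.height ≤ Q.height + 1 := by
    rw [← Groth.L04.height_add_height_quotient Q Q' hQQ']
    exact add_le_add le_rfl h1
  refine hmax Q' ⟨inferInstance, hpQ.trans hQQ', hQ'q, h2.trans (Order.add_one_le_of_lt hlt)⟩
    (lt_of_le_of_ne hQQ' fun he => haQ ?_)
  rw [he]
  exact hQ'.1.2 (Ideal.mem_sup_right (Ideal.mem_span_singleton_self a))

variable {X : Scheme.{u}}

theorem isRegularRing_sections [IsLocallyNoetherian X]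
    (hreg : ∀ x : X, IsRegularLocalRing (X.presheaf.stalk x)) {V : X.Opens} (hV : IsAffineOpen V) :
    IsRegularRing Γ(X, V) := by
  haveI := IsLocallyNoetherian.component_noetherian ⟨V, hV⟩
  refine { (inferInstance : IsNoetherianRing Γ(X, V)) with isRegularLocalRing_localization := fun p _ => ?_ }
  have hx : hV.fromSpec ⟨p, inferInstance⟩ ∈ V := hV.opensRange_fromSpec.le ⟨_, rfl⟩
  have hqe : hV.primeIdealOf ⟨hV.fromSpec ⟨p, inferInstance⟩, hx⟩ = ⟨p, inferInstance⟩ :=
    hV.fromSpec.isOpenEmbedding.injective (hV.fromSpec_primeIdealOf _)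
  letI := X.presheaf.algebra_section_stalk ⟨hV.fromSpec ⟨p, inferInstance⟩, hx⟩
  haveI : IsLocalization.AtPrime (X.presheaf.stalk (hV.fromSpec ⟨p, inferInstance⟩)) p := by
    have h := hV.isLocalization_stalk ⟨hV.fromSpec ⟨p, inferInstance⟩, hx⟩
    rw [hqe] at h
    exact h
  haveI := hreg (hV.fromSpec ⟨p, inferInstance⟩)
  exact IsRegularLocalRing.of_ringEquiv
    (IsLocalization.algEquiv p.primeCompl (X.presheaf.stalk (hV.fromSpec ⟨p, inferInstance⟩))
      (Localization.AtPrime p)).toRingEquiv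

theorem exists_affine_primes [IsLocallyNoetherian X] {x y : X} (h : y ⤳ x) :
    ∃ (V : X.Opens) (hV : IsAffineOpen V) (p q : PrimeSpectrum Γ(X, V)),
      hV.fromSpec p = y ∧ hV.fromSpec q = x ∧ p.asIdeal ≤ q.asIdeal := by
  obtain ⟨V, hV, hxV, -⟩ := exists_isAffineOpen_mem_and_subset (TopologicalSpace.Opens.mem_top x)
  have hyV : y ∈ V := h.mem_open V.isOpen hxV
  refine ⟨V, hV, hV.primeIdealOf ⟨y, hyV⟩, hV.primeIdealOf ⟨x, hxV⟩, hV.fromSpec_primeIdealOf _,
    hV.fromSpec_primeIdealOf _, ?_⟩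
  refine (PrimeSpectrum.le_iff_specializes _ _).2 (hV.fromSpec.isOpenEmbedding.isInducing.specializes_iff.1 ?_)
  rw [hV.fromSpec_primeIdealOf, hV.fromSpec_primeIdealOf]
  exact h

theorem dim_stalk_le_of_specializes [IsLocallyNoetherian X] {x y : X} (h : y ⤳ x) :
    ringKrullDim (X.presheaf.stalk y) ≤ ringKrullDim (X.presheaf.stalk x) := by
  obtain ⟨V, hV, p, q, rfl, rfl, hle⟩ := exists_affine_primes h
  rw [← height_eq_dim_stalk hV p, ← height_eq_dim_stalk hV q]
  exact WithBot.coe_le_coe.2 (Ideal.height_mono hle)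

theorem exists_dim_eq [IsLocallyNoetherian X] (hreg : ∀ x : X, IsRegularLocalRing (X.presheaf.stalk x)) {x y : X}
    (h : y ⤳ x) (n : ℕ) (hy : ringKrullDim (X.presheaf.stalk y) ≤ (n : WithBot ℕ∞))
    (hx : (n : WithBot ℕ∞) ≤ ringKrullDim (X.presheaf.stalk x)) :
    ∃ z : X, y ⤳ z ∧ ringKrullDim (X.presheaf.stalk z) = (n : WithBot ℕ∞) := by
  obtain ⟨V, hV, p, q, rfl, rfl, hle⟩ := exists_affine_primes h
  haveI := isRegularRing_sections hreg hV
  rw [← height_eq_dim_stalk hV p] at hy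
  rw [← height_eq_dim_stalk hV q] at hx
  obtain ⟨Q, hQ, hpQ, -, hQn⟩ := exists_height_eq p.asIdeal q.asIdeal hle n (WithBot.coe_le_coe.1 hy)
    (WithBot.coe_le_coe.1 hx)
  refine ⟨hV.fromSpec ⟨Q, hQ⟩, ((PrimeSpectrum.le_iff_specializes p ⟨Q, hQ⟩).1 hpQ).map hV.fromSpec.continuous, ?_⟩
  rw [← height_eq_dim_stalk hV ⟨Q, hQ⟩, hQn]
  rfl

/-- A part of a closed set stable under specialisation and generalisation within it is closed. -/
theorem isClosed_of_stable [IsLocallyNoetherian X] (P S : Set X) (hP : IsClosed P) (hSP : S ⊆ P)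
    (h : ∀ g y : X, g ⤳ y → g ∈ P → (g ∈ S ↔ y ∈ S)) : IsClosed S := by
  refine isClosed_of_closure_subset fun z hz => ?_
  obtain ⟨V, hV, hzV, -⟩ := exists_isAffineOpen_mem_and_subset (TopologicalSpace.Opens.mem_top z)
  haveI := IsLocallyNoetherian.component_noetherian ⟨V, hV⟩
  let P' : Set (PrimeSpectrum Γ(X, V)) := hV.fromSpec ⁻¹' P
  have hP' : IsClosed P' := hP.preimage hV.fromSpec.continuous
  obtain ⟨J, hJ⟩ : ∃ J : Ideal Γ(X, V), P' = PrimeSpectrum.zeroLocus (J : Set Γ(X, V)) :=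
    ⟨PrimeSpectrum.vanishingIdeal P',
      by rw [PrimeSpectrum.zeroLocus_vanishingIdeal_eq_closure, hP'.closure_eq]⟩
  let G : Set (PrimeSpectrum Γ(X, V)) := {g | g.asIdeal ∈ J.minimalPrimes ∧ hV.fromSpec g ∈ S}
  have hG : G.Finite := ((Ideal.finite_minimalPrimes_of_isNoetherianRing Γ(X, V) J).preimage
    (fun a _ b _ hab => PrimeSpectrum.ext hab)).subset fun g hg => hg.1
  have hsub : S ∩ V ⊆ ⋃ g ∈ G, closure {hV.fromSpec g} := by
    rintro y ⟨hyS, hyV⟩
    let p := hV.primeIdealOf ⟨y, hyV⟩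
    have hpy : hV.fromSpec p = y := hV.fromSpec_primeIdealOf _
    have hpP : p ∈ P' := by
      show hV.fromSpec p ∈ P
      rw [hpy]
      exact hSP hyS
    rw [hJ] at hpP
    obtain ⟨g, hg, hgp⟩ := Ideal.exists_minimalPrimes_le (I := J) (J := p.asIdeal) hpP
    let g' : PrimeSpectrum Γ(X, V) := ⟨g, hg.1.1⟩
    have hs : hV.fromSpec g' ⤳ y :=
      hpy ▸ ((PrimeSpectrum.le_iff_specializes g' p).1 hgp).map hV.fromSpec.continuous
    have hgP : hV.fromSpec g' ∈ P := by
      show g' ∈ P'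
      rw [hJ]
      exact hg.1.2
    exact Set.mem_biUnion (x := g') ⟨hg, (h _ _ hs hgP).2 hyS⟩ (specializes_iff_mem_closure.1 hs)
  have hcl : IsClosed (⋃ g ∈ G, closure {hV.fromSpec g}) := hG.isClosed_biUnion fun g _ => isClosed_closure
  have hz' : z ∈ closure (S ∩ V) :=
    closure_mono (Set.inter_comm _ _).le (V.isOpen.inter_closure ⟨hzV, hz⟩)
  obtain ⟨g, hg, hgz⟩ := Set.mem_iUnion₂.1 (hcl.closure_subset_iff.2 hsub hz')
  exact (h _ _ (specializes_iff_mem_closure.2 hgz) (hSP hg.2)).1 hg.2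

theorem le_depth_structureModule [IsLocallyNoetherian X]
    (hreg : ∀ x : X, IsRegularLocalRing (X.presheaf.stalk x)) (x : X) (n : ℕ)
    (hn : (n : WithBot ℕ∞) ≤ ringKrullDim (X.presheaf.stalk x)) :
    (n : ℕ∞) ≤ LocCoh.depth (X.presheaf.stalk x) ((Coh.structureModule X).presheaf.stalk x) := by
  haveI := hreg x
  haveI hCM := Groth.L04.isCohenMacaulayLocalRing_of_regular (X.presheaf.stalk x)
  let h : X.presheaf.stalk x ≃ₗ[X.presheaf.stalk x] (Coh.structureModule X).presheaf.stalk x :=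
    LinearEquiv.ofBijective
      (LinearMap.toSpanSingleton (X.presheaf.stalk x) ((Coh.structureModule X).presheaf.stalk x) (Groth.L21.RR.one X x))
      (Groth.L21.RR.bijective_smul_one x)
  have e := hCM.supportDim_eq_depth
  rw [Module.supportDim_self_eq_ringKrullDim] at e
  rw [e] at hn
  rw [LocCoh.depth, ← Groth.L04.idealDepth_congr (I := IsLocalRing.maximalIdeal _) h]
  exact WithBot.coe_le_coe.1 hn

end Groth.L04.ExtZ
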