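import Groth.Agent.L17.GrothSS
import Groth.Agent.L10.SpSeq.Abstract

/-!
# Vanishing of the derived functors of a composite
-/

set_option autoImplicit false
set_option backward.isDefEq.respectTransparency false

universe w v u v' u' v'' u''

open CategoryTheory CategoryTheory.Limits
open scoped ZeroObject

namespace Groth.L04.ExtZ

variable {C : Type u'} [Category.{v'} C] [Abelian C] [HasInjectiveResolutions C]
  {C' : Type u} [Category.{v} C'] [Abelian C'] [HasInjectiveResolutions C'] [EnoughInjectives C']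
  [HasDerivedCategory.{w} C']
  {C'' : Type u''} [Category.{v''} C''] [Abelian C'']
  (T : C ⥤ C') [T.Additive] (S : C' ⥤ C'') [S.Additive] [PreservesFiniteLimits S]

/-- `R^i (T ⋙ S) A = 0` if all `R^p S (R^q T A)`, `p + q = i`, vanish. -/
theorem isZero_rightDerived_comp
    (hT : ∀ Q : C, Injective Q → ∀ q : ℕ, 0 < q → IsZero ((S.rightDerived q).obj (T.obj Q)))
    (A : C) (i : ℕ)
    (h : ∀ p q : ℕ, p + q = i → IsZero ((S.rightDerived p).obj ((T.rightDerived q).obj A))) :
    IsZero (((T ⋙ S).rightDerived i).obj A) := by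
  obtain ⟨E, a, hfin, -, hE⟩ := Groth.L17.GrothSS.exists_spectralSequence T S hT A
  let K := a.filObj (i : ℤ)
  have hgr : ∀ p : ℤ, IsZero (K.gr p) := fun p => by
    refine Groth.L10.SpSeqAbs.isZero_filObj_gr a (i : ℤ) p 2 le_rfl ?_
    obtain ⟨e⟩ := hE p ((i : ℤ) - p)
    refine IsZero.of_iso ?_ e
    by_cases hp : 0 ≤ p ∧ 0 ≤ (i : ℤ) - p
    · rw [if_pos hp]
      exact h _ _ (by omega)
    · rw [if_neg hp]
      exact isZero_zero C''
  obtain ⟨hc, hd⟩ := hfin (i : ℤ)
  have htop : K.fil 0 = ⊤ := Groth.L10.SpSeqAbs.fil_eq_top K hc 0 fun p _ => hgr p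
  have hbot : K.fil 0 = ⊥ := Groth.L10.SpSeqAbs.fil_eq_bot K hd 0 fun p _ => hgr p
  have hz : IsZero (K.fil 0 : C'') := by
    rw [hbot]
    exact IsZero.of_iso (isZero_zero C'') Subobject.botCoeIsoZero
  rw [htop] at hz
  have h0 : IsZero (if 0 ≤ (i : ℤ) then ((T ⋙ S).rightDerived ((i : ℤ).toNat)).obj A else 0) :=
    IsZero.of_iso hz (asIso (⊤ : Subobject K.obj).arrow).symm
  rw [if_pos (Int.natCast_nonneg i), Int.toNat_natCast] at h0
  exact h0

end Groth.L04.ExtZ
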