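import Groth.Agent.L04.ExtZ.SSVanish
import Groth.Agent.L04.ExtZ.Derived
import Groth.Agent.L04.ExtZ.Bridge
import Groth.Agent.L04.ExtZ.HighDim
import Groth.Agent.L04.RegularPd
import Groth.Agent.L15.ExtSupp.SectAcyclic
import Groth.Agent.L17.HomAcyclic
import Groth.Agent.L22.ExtSh.Vanish
import Groth.Agent.L16.ExtZSh.Supported
import Groth.Agent.L16.Rees.RelVanish
import Groth.Agent.S6034

/-!
# Vanishing and coherence of Ext sheaves with supports
-/

set_option autoImplicit false
set_option backward.isDefEq.respectTransparency false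
set_option linter.style.haveILetI false
set_option linter.unusedSectionVars false
universe u

open CategoryTheory CategoryTheory.Limits Opposite MonoidalCategory AlgebraicGeometry TopologicalSpace
open Coherent

noncomputable section

namespace Groth.L04.ExtZ

open Groth.L15.ExtSupp Groth.L10 Groth.L10.SiteFr Groth.L00.ModSiteTensor

variable {X : Scheme.{u}}

theorem restr_eq_zero_of_vanish (W : X.Opens) (M : ModSite.Mod X.sheaf) [ModSite.HasSheafHom (O := X.sheaf) M]
    (hM : ∀ ⦃V : X.Opens⦄ (_ : V ⟶ W) (q : ModSite.sect (O := X.sheaf) M V), q = 0) {A N : ModSite.Mod X.sheaf}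
    (a : A ⟶ (ModSite.sheafHom (O := X.sheaf) M).obj N) : (ModSite.restr X.sheaf W).map a = 0 := by
  rw [restr_adjunct_eq_zero_iff (O := X.sheaf) W M]
  refine restr_eq_zero_of_shf (P := (preF X.sheaf).obj A ⊗ (preF X.sheaf).obj M) W _ fun V g x => ?_
  have hx : x = 0 := by
    induction x using TensorProduct.induction_on with
    | zero => rfl
    | tmul p q =>
      rw [show q = 0 from hM g q]
      exact TensorProduct.tmul_zero _ _
    | add p q hp hq => rw [hp, hq, add_zero]
  rw [hx]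
  exact (congrArg _ (map_zero ((Groth.L00.ModSiteTensor.unit _).app (op V)).hom)).trans (map_zero _)

section

variable [IsLocallyNoetherian X] [hIR : HasInjectiveResolutions (ModSite.Mod X.sheaf)]
  (U : X.Opens) (F : X.Modules) [ModSite.HasSheafHom (O := X.sheaf) F]

/-- Only the part of the support inside the support of `F` matters. -/
theorem nonempty_extZSh_sup (W : X.Opens) (hW : ∀ x ∈ (W : Set X), Subsingleton (F.presheaf.stalk x)) (i : ℕ) :
    Nonempty (ModSite.extZSh (O := X.sheaf) U F i ≅ ModSite.extZSh (O := X.sheaf) (U ⊔ W) F i) :=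
  ⟨Groth.L15.ModTensor.rdIso (sectIsoOfIff (O := X.sheaf) U (U ⊔ W) (ModSite.sheafHom (O := X.sheaf) F)
    fun N A a => ⟨fun h => restr_sup a le_rfl h
      (restr_eq_zero_of_vanish W F (fun _ g q => Groth.L16.ExtZSh.eq_zero_below F W hW g q) a),
      fun h => restr_mono a le_sup_left h⟩) i⟩

theorem isGrothendieck_mod : EnoughInjectives (ModSite.Mod X.sheaf) :=
  haveI : IsGrothendieckAbelian.{u} X.Modules := Groth.L00.Tensor.grothendieckAbelian_modules X
  (inferInstanceAs (EnoughInjectives X.Modules))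

/-- Vanishing below the depth. -/
theorem isZero_extZSh_of_depth (G : X.Modules) (hG : Coh.IsCoh G) (n : ℕ)
    (hdepth : ∀ x : X, x ∉ (U : Set X) →
      (n : ℕ∞) ≤ LocCoh.depth (X.presheaf.stalk x) (G.presheaf.stalk x)) (i : ℕ) (hi : i < n) :
    IsZero ((ModSite.extZSh (O := X.sheaf) U F i).obj G) := by
  haveI := isGrothendieck_mod (X := X)
  letI := HasDerivedCategory.standard (ModSite.Mod X.sheaf)
  haveI : (ModSite.sheafHom (O := X.sheaf) F).IsRightAdjoint :=
    (ModSite.sheafHomAdj (O := X.sheaf) F).isRightAdjoint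
  haveI : PreservesFiniteLimits (ModSite.sheafHom (O := X.sheaf) F) := inferInstance
  refine IsZero.of_iso ?_ ((Groth.L15.ModTensor.rdIso (homSectIso (O := X.sheaf) U F) i).app G).symm
  refine isZero_rightDerived_comp (ModSite.sectOn X.sheaf U) (ModSite.sheafHom (O := X.sheaf) F)
    (fun Q hQ q hq => ?_) G i fun p q hpq => ?_
  · haveI := injective_sectOn (O := X.sheaf) U Q
    obtain ⟨k, rfl⟩ : ∃ k, q = k + 1 := ⟨q - 1, by omega⟩
    exact (ModSite.sheafHom (O := X.sheaf) F).isZero_rightDerived_obj_injective_succ k _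
  · refine Functor.map_isZero _ ((isZero_HZsh_iff U G q).2 ?_)
    exact (Groth.Agent.S6034.result X U G hG n).2 hdepth q (by omega)

theorem le_dim_of_mem_support_extSh (hF : Coh.IsCoh F) (G : X.Modules)
    (hreg : ∀ x : X, IsRegularLocalRing (X.presheaf.stalk x)) (p : ℕ) (z : X)
    (hz : z ∈ CohB1.support (show X.Modules from (ModSite.extSh (O := X.sheaf) F p).obj G)) :
    (p : WithBot ℕ∞) ≤ ringKrullDim (X.presheaf.stalk z) := by
  by_contra hlt
  rw [not_le] at hlt
  haveI := hreg z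
  obtain ⟨d, hd⟩ : ∃ d : ℕ, ringKrullDim (X.presheaf.stalk z) = d :=
    ⟨_, ((isRegularLocalRing_iff _).1 (hreg z)).symm⟩
  rw [hd] at hlt
  have hdp : d < p := by exact_mod_cast hlt
  have hP : HasProjectiveDimensionLE (ModuleCat.of (X.presheaf.stalk z) (F.presheaf.stalk z)) d :=
    Groth.L04.hasProjectiveDimensionLE_of_regularLocal hd _
  have hext : Subsingleton (Abelian.Ext (ModuleCat.of (X.presheaf.stalk z) (F.presheaf.stalk z))
      (ModuleCat.of (X.presheaf.stalk z) (G.presheaf.stalk z)) p) :=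
    HasProjectiveDimensionLT.subsingleton (hX := hP) _ (d + 1) p (by omega) _
  obtain ⟨e⟩ := Groth.L22.ExtSh.nonempty_stalk_extSh F hF G z p
  haveI : Subsingleton (Abelian.Ext ((Groth.L22.ExtSh.stkS z).obj F) ((Groth.L22.ExtSh.stkS z).obj G) p) :=
    (Groth.L22.ExtSh.ext_restr_iff (Groth.L22.ExtSh.ringIso z).commRingCatIsoToRingEquiv
    ((Groth.L00.Stk.F X z).obj F) ((Groth.L00.Stk.F X z).obj G) p).2 hext
  exact hz (show Subsingleton ((Groth.L22.ExtSh.stkS z).obj
    ((ModSite.extSh (O := X.sheaf) F p).obj G)) from e.toEquiv.subsingleton)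

/-- Vanishing above the dimension. -/
theorem isZero_extZSh_of_dim (hreg : ∀ x : X, IsRegularLocalRing (X.presheaf.stalk x)) (hF : Coh.IsCoh F)
    (G : X.Modules) (hG : Coh.IsCoh G) (i : ℕ)
    (hdim : ∀ x : X, x ∉ (U : Set X) → ringKrullDim (X.presheaf.stalk x) < (i : WithBot ℕ∞)) :
    IsZero ((ModSite.extZSh (O := X.sheaf) U F i).obj G) := by
  haveI := isGrothendieck_mod (X := X)
  letI := HasDerivedCategory.standard (ModSite.Mod X.sheaf)
  haveI : (ModSite.sectOn X.sheaf U).IsRightAdjoint :=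
    (Groth.L15.ExtSupp.quotSectAdj (O := X.sheaf) U).isRightAdjoint
  haveI : PreservesFiniteLimits (ModSite.sectOn X.sheaf U) := inferInstance
  refine isZero_rightDerived_comp (ModSite.sheafHom (O := X.sheaf) F) (ModSite.sectOn X.sheaf U)
    (fun Q hQ q hq => ?_) G i fun p q hpq => ?_
  · obtain ⟨k, rfl⟩ : ∃ k, q = k + 1 := ⟨q - 1, by omega⟩
    exact Groth.L15.SectAcyclic.isZero_HZsh U _
      (Groth.L17.HomAcyclic.isTotallyAcyclic_sheafHom X.sheaf F Q) k
  · refine (isZero_HZsh_iff U ((ModSite.extSh (O := X.sheaf) F q).obj G) p).2 ?_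
    refine isZero_HZsh_of_dims U _ (Groth.L22.ExtSh.isCoh_extSh hF hG q).1 q p (fun x hx => ?_) fun z hz =>
      le_dim_of_mem_support_extSh F hF G hreg q z hz
    rw [show q + p = i by omega]
    exact hdim x hx

end

section Reduction

variable [IsLocallyNoetherian X] [hIR : HasInjectiveResolutions (ModSite.Mod X.sheaf)]

theorem subsingleton_stalk_cokernel (U W : X.Opens) (F : X.Modules)
    (hW : ∀ x ∈ (W : Set X), x ∈ (U : Set X) → Subsingleton (F.presheaf.stalk x)) (x : X) (hx : x ∈ W) :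
    Subsingleton ((cokernel (C := X.Modules) ((ModSite.sectOnι X.sheaf U).app F)).presheaf.stalk x) := by
  let F0 : ModSite.Mod X.sheaf := F
  let ι : (ModSite.sectOn X.sheaf U).obj F0 ⟶ F0 := (ModSite.sectOnι X.sheaf U).app F0
  let π : F ⟶ cokernel (C := X.Modules) ι := cokernel.π (C := X.Modules) ι
  have h1 : (ModSite.restr X.sheaf (W ⊓ U)).map (𝟙 F0) = 0 :=
    restr_map_eq_zero (O := X.sheaf) (W ⊓ U) _ fun V g s =>
      Groth.L16.ExtZSh.eq_zero_below F (W ⊓ U) (fun y hy => hW y hy.1 hy.2) g s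
  have h2 := restr_counit_comp (𝟙 F0) W U h1
  replace h2 := (congrArg (ModSite.restr X.sheaf U).map (Category.comp_id _)).symm.trans h2
  have h3 : (ModSite.extZeroAdj X.sheaf W).counit.app F0 ≫
      (show F0 ⟶ _ from π) = 0 := by
    rw [← kernel.lift_ι _ _ ((unit_comp_eq_zero_iff (O := X.sheaf) U _).2 h2), Category.assoc]
    exact (congrArg (_ ≫ ·) (cokernel.condition ι)).trans comp_zero
  have h4 := (counit_comp_eq_zero_iff (O := X.sheaf) W _).1 h3
  have hs := (Groth.L21.Mod.epi_iff_stalk_surjective π).1 inferInstance x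
  refine subsingleton_of_forall_eq 0 fun c => ?_
  obtain ⟨b, rfl⟩ := hs c
  obtain ⟨V, hxV, s, rfl⟩ := TopCat.Presheaf.exists_germ_eq F.presheaf b
  show ((TopCat.Presheaf.stalkFunctor AddCommGrpCat.{u} x).map π.mapPresheaf) (F.presheaf.germ V x hxV s) = 0
  rw [TopCat.Presheaf.stalkFunctor_map_germ_apply,
    ← TopCat.Presheaf.germ_res_apply _ (homOfLE (inf_le_left : V ⊓ W ≤ V)) x ⟨hxV, hx⟩,
    ← NatTrans.naturality_apply π.mapPresheaf (homOfLE (inf_le_left : V ⊓ W ≤ V)).op s]
  exact (congrArg _ (val_app_eq_zero_of_restr (O := X.sheaf) W _ h4 (homOfLE inf_le_right) _)).trans (map_zero _)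

theorem subsingleton_stalk_sectOn (U : X.Opens) (F : X.Modules) (x : X) (hx : x ∈ U) :
    Subsingleton ((show X.Modules from (ModSite.sectOn X.sheaf U).obj F).presheaf.stalk x) := by
  let F' : X.Modules := (ModSite.sectOn X.sheaf U).obj F
  refine subsingleton_of_forall_eq 0 fun b => ?_
  obtain ⟨V, hxV, s, rfl⟩ := TopCat.Presheaf.exists_germ_eq F'.presheaf b
  show F'.presheaf.germ V x hxV s = 0
  rw [← TopCat.Presheaf.germ_res_apply _ (homOfLE (inf_le_left : V ⊓ U ≤ V)) x ⟨hxV, hx⟩ s]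
  refine (congrArg _ ?_).trans (map_zero _)
  haveI : Mono ((ModSite.sectOnι X.sheaf U).app F) := mono_sectOnι (O := X.sheaf) U F
  refine val_app_injective (O := X.sheaf) ((ModSite.sectOnι X.sheaf U).app F) (V ⊓ U) ?_
  exact (val_app_eq_zero_of_restr (O := X.sheaf) U _ (restr_sectOnι (O := X.sheaf) U F)
    (homOfLE inf_le_right) _).trans (map_zero _).symm

variable (U : X.Opens) (F G : X.Modules) [ModSite.HasSheafHom (O := X.sheaf) F]

/-- Coherence follows from vanishing for coherent modules supported in the closure of `Supp F ∩ U`. -/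
theorem isCoh_extZSh_of_reduction (hF : Coh.IsCoh F) (hG : Coh.IsCoh G) (i : ℕ)
    (h : ∀ (F' : X.Modules) [ModSite.HasSheafHom (O := X.sheaf) F'], Coh.IsCoh F' →
      (∀ x : X, x ∉ closure (CohB1.support F ∩ (U : Set X)) → Subsingleton (F'.presheaf.stalk x)) →
      IsZero ((ModSite.extZSh (O := X.sheaf) U F' i).obj G)) :
    Coh.IsCoh ((ModSite.extZSh (O := X.sheaf) U F i).obj G) := by
  haveI : Coh.IsQCoh F := hF.1
  let F₁ : X.Modules := (ModSite.sectOn X.sheaf U).obj F
  let ι : F₁ ⟶ F := (ModSite.sectOnι X.sheaf U).app F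
  haveI hι : Mono (C := X.Modules) ι := mono_sectOnι (O := X.sheaf) U F
  haveI : Coh.IsQCoh F₁ := Groth.L16.ExtZSh.isQCoh_sectOn U F
  have h₁ : Coh.IsCoh F₁ := Groth.L16.Rees.RelVanish.isCoh_of_mono ι hF
  let S : ShortComplex X.Modules := ShortComplex.mk ι (cokernel.π ι) (cokernel.condition ι)
  have hS : S.ShortExact := { exact := ShortComplex.exact_cokernel ι }
  have h₃ : Coh.IsCoh S.X₃ := (Groth.L16.CohKernel.isCoh_kernel_cokernel h₁ hF ι).2
  haveI : ModSite.HasSheafHom (O := X.sheaf) S.X₁ := hasHom _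
  haveI : ModSite.HasSheafHom (O := X.sheaf) S.X₂ := ‹ModSite.HasSheafHom (O := X.sheaf) F›
  haveI : ModSite.HasSheafHom (O := X.sheaf) S.X₃ := hasHom _
  let W : X.Opens := ⟨(closure (CohB1.support F ∩ (U : Set X)))ᶜ, isClosed_closure.isOpen_compl⟩
  have hW : ∀ x ∈ (W : Set X), x ∈ (U : Set X) → Subsingleton (F.presheaf.stalk x) := fun x hxW hxU => by
    by_contra hne
    exact hxW (subset_closure ⟨hne, hxU⟩)
  have hz := h S.X₃ h₃ fun x hx => subsingleton_stalk_cokernel U W F hW x hx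
  obtain ⟨f, hf⟩ := exists_mono_extZSh U hS h₁ hF h₃ G i hz
  haveI : Coh.IsQCoh ((ModSite.extZSh (O := X.sheaf) U S.X₂ i).obj G) :=
    Groth.L16.ExtZSh.isQCoh_extZSh U F hF i G hG.1
  haveI := hf
  refine Groth.L16.Rees.RelVanish.isCoh_of_mono (X := X) f ?_
  exact Groth.L16.ExtZSh.isCoh_of_support U S.X₁ G h₁ hG
    (fun x hx hxU => hx (subsingleton_stalk_sectOn U F x hxU)) i

end Reduction

end Groth.L04.ExtZ
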